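import Groth.Agent.AlgStLib.LocQInst
import Groth.Agent.GerbFlat.Section
import Groth.Agent.AlgSpMor.LCI

/-!
# Cancellation of smooth functors from local complete intersection functors
-/

set_option backward.isDefEq.respectTransparency false
set_option backward.isDefEq.respectTransparency.types false
set_option autoImplicit false

universe u

open CategoryTheory CategoryTheory.Functor CategoryTheory.Limits AlgebraicGeometry Opposite AlgSp
open Groth.Agent.FibBase Groth.Agent.AlgSpLib Groth.Agent.AlgStLib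

namespace Groth.Agent.LciSt49

variable {S : Scheme.{u}} {𝒳 𝒴 𝒵 : AlgSt.Cat S}

theorem lci_of_isLCIMor {U V : Over S} {h : U ⟶ V} (H : AlgSp.IsLCIMor ((yon S).map h)) :
    KRegLib.IsLCI' h.left := by
  rw [AlgSpMor.isLCIMor_iff] at H
  exact H (𝟙 _) (𝟙 _) h (repWith_of_isIso _ _) (repWith_of_isIso _ _)
    ((Category.id_comp _).trans (Category.comp_id _).symm)

theorem isLCIMor_of_lci {U V : Over S} {h : U ⟶ V} (H : KRegLib.IsLCI' h.left) :
    AlgSp.IsLCIMor ((yon S).map h) := by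
  rw [AlgSpMor.isLCIMor_iff]
  exact AlgSpMor.locP_of_chartW (repWith_of_isIso @Etale (𝟙 _)) (repWith_of_isIso @Surjective (𝟙 _))
    (repWith_of_isIso @Etale (𝟙 _)) ((Category.id_comp _).trans (Category.comp_id _).symm) H

theorem smooth_left_of_overMap {U V : Over S} {s : U ⟶ V}
    (h : AlgSt.RepByAlgSpWith (LocP @Smooth) (AlgSt.overMap s)) : Smooth s.left := by
  let G := BasedFunctor.comp (AlgSt.toOverCat U) (BasedFunctor.comp (AlgSt.overMap s) (AlgSt.ofOverCat V))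
  have hG : AlgSt.RepByAlgSpWith (LocP @Smooth) (AlgSt.ofSpMap (spHom G)) :=
    repByAlgSpWith_of_iso (isoOfSpMap G) (repByAlgSpWith_precomp (isEquivOver_toOverCat U)
      (repByAlgSpWith_postcomp (isEquivOver_ofOverCat V) h))
  have := locP_of_repBySpWith (IsAlgSpace.yon_obj V) (spHom G)
    (repBySpWith_of_repByAlgSpWith (AlgSt.ofSpMap (spHom G)) (BasedFunctor.id _) stableBC_locP isEquivOver_id hG
      (Iso.refl _))
  rw [show spHom G = (yon S).map s from spHom_toOverCat_comp (Iso.refl (AlgSt.overMap s))] at this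
  exact locP_yon_map (P := @Smooth) this

theorem cancel (h𝒳 : AlgSt.IsAlgStack Scheme.fppfPrecoverage 𝒳) (h𝒴 : AlgSt.IsAlgStack Scheme.fppfPrecoverage 𝒴)
    (h𝒵 : AlgSt.IsAlgStack Scheme.fppfPrecoverage 𝒵) {f : 𝒳 ⥤ᵇ 𝒴} {q : 𝒴 ⥤ᵇ 𝒵} {p : 𝒳 ⥤ᵇ 𝒵}
    (e : BasedFunctor.comp f q ≅ p) (hq : AlgSt.LocQ (LocP @Smooth) q) (hp : AlgSt.LocQ AlgSp.IsLCIMor p) :
    AlgSt.LocQ AlgSp.IsLCIMor f := by
  obtain ⟨U₀, W, x₀, z, h₀, α, hx₀, hx₀', hz, hh₀⟩ := hp
  let L : FibCat.overCat U₀ ⥤ᵇ FibCat.fp q z :=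
    FibCat.fpLift (BasedFunctor.comp x₀ f) (AlgSt.overMap h₀) (whiskerLeftIso x₀ e ≪≫ α)
  have hF : AlgSt.IsAlgStack Scheme.fppfPrecoverage (FibCat.fp q z) :=
    isAlgStack_fp h𝒴 (isAlgStack_overCat W) h𝒵.isStack h𝒵.diag q z
  obtain ⟨V, d, hd, hd'⟩ := id hF.atlas
  obtain ⟨U, c, hc, hc'⟩ := exists_atlas_fp (isAlgStack_overCat U₀) (isAlgStack_overCat V) hF L d
  obtain ⟨s, ⟨is⟩⟩ := GerbFlat.exists_overMap_iso (BasedFunctor.comp c (FibCat.fpFst L d))
  obtain ⟨h, ⟨ih⟩⟩ := GerbFlat.exists_overMap_iso (BasedFunctor.comp c (FibCat.fpSnd L d))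
  obtain ⟨k, ⟨ik⟩⟩ := GerbFlat.exists_overMap_iso (BasedFunctor.comp d (FibCat.fpSnd q z))
  have hks : Smooth k.left := locP_yon_map (P := @Smooth)
    ((locQS_of_locQ isSmoothLocalST_smooth h𝒴.isStack.1 h𝒵.isStack.1 hq).scheme d hz hd ik)
  have hgc := fp_isFibGrpd (F := L) (G := d) (isFibGrpd_overCat U₀) (isFibGrpd_overCat V) hF.isStack.1
  have hs1 : AlgSt.RepByAlgSpWith (LocP @Smooth) (BasedFunctor.comp c (FibCat.fpFst L d)) :=
    repByAlgSpWith_locP_comp (isFibGrpd_overCat U) hgc hc (repByAlgSpWith_fpFst L hd)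
  have hs2 : AlgSt.RepByAlgSpWith IsSurjectiveMor (BasedFunctor.comp c (FibCat.fpFst L d)) :=
    repByAlgSpWith_isSurjectiveMor_comp (isFibGrpd_overCat U) hgc hc' (repByAlgSpWith_fpFst L hd')
  have hss : Smooth s.left := smooth_left_of_overMap (repByAlgSpWith_of_iso is hs1)
  have hcomp : h ≫ k = s ≫ h₀ := GerbFlat.hom_eq_of_overMap_iso
    ((overMapCompIso h k).symm ≪≫ whiskerRightIso ih.symm (AlgSt.overMap k) ≪≫
      whiskerLeftIso (BasedFunctor.comp c (FibCat.fpSnd L d)) ik.symm ≪≫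
      whiskerRightIso (whiskerLeftIso c (FibCat.fpIso L d).symm) (FibCat.fpSnd q z) ≪≫
      whiskerRightIso is (AlgSt.overMap h₀) ≪≫ overMapCompIso s h₀)
  have hl : KRegLib.IsLCI' (h.left ≫ k.left) := by
    rw [← Over.comp_left, hcomp, Over.comp_left]
    refine MorphismProperty.comp_mem _ _ _ ?_ (lci_of_isLCIMor hh₀)
    exact (KRegLib.forall_isKoszulAt_iff s.left).1 fun x =>
      Synt29.isKoszulAt_of_isSyntomicMor s.left (S9699.result s.left) x
  have hlci : KRegLib.IsLCI' h.left := (KRegLib.forall_isKoszulAt_iff _).1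
    (KRegLib.isKoszulAt_of_comp_smooth h.left k.left ((KRegLib.forall_isKoszulAt_iff _).2 hl))
  refine ⟨U, V, BasedFunctor.comp (BasedFunctor.comp c (FibCat.fpFst L d)) x₀,
    BasedFunctor.comp d (FibCat.fpFst q z), h,
    whiskerRightIso (whiskerLeftIso c (FibCat.fpIso L d)) (FibCat.fpFst q z) ≪≫
      whiskerRightIso ih (BasedFunctor.comp d (FibCat.fpFst q z)),
    repByAlgSpWith_locP_comp (isFibGrpd_overCat U) (isFibGrpd_overCat U₀) hs1 hx₀,
    repByAlgSpWith_isSurjectiveMor_comp (isFibGrpd_overCat U) (isFibGrpd_overCat U₀) hs2 hx₀',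
    repByAlgSpWith_locP_comp (isFibGrpd_overCat V) hF.isStack.1 hd (repByAlgSpWith_fpFst q hz),
    isLCIMor_of_lci hlci⟩

end Groth.Agent.LciSt49
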